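import Groth.Agent.ZFin5.Sch
import Groth.Agent.SecFin.Normal

/-!
# The codimension condition from coherent direct images
-/

set_option autoImplicit false
set_option linter.style.haveILetI false
set_option backward.isDefEq.respectTransparency false
set_option backward.isDefEq.respectTransparency.types false

universe u

open CategoryTheory CategoryTheory.Limits AlgebraicGeometry TopologicalSpace Opposite

namespace Groth.Agent.ZFin5

open ZClosLib

/-- The dimension of a quotient of a localization is at most the height in the quotient ring. -/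
theorem dim_quot_localization_le {B : Type u} [CommRing B] (p q : Ideal B) [q.IsPrime] (hpq : p ≤ q)
    {L : Type u} [CommRing L] [Algebra B L] [IsLocalization.AtPrime L q] (P : Ideal L)
    (hP : P.comap (algebraMap B L) = p) :
    ringKrullDim (L ⧸ P) ≤ ((q.map (Ideal.Quotient.mk p)).height : WithBot ℕ∞) := by
  haveI : (q.map (Ideal.Quotient.mk p)).IsPrime :=
    Ideal.map_isPrime_of_surjective Ideal.Quotient.mk_surjective (by rwa [Ideal.mk_ker])
  let b : PrimeSpectrum (B ⧸ p) := ⟨q.map (Ideal.Quotient.mk p), inferInstance⟩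
  let h : B ⧸ p →+* L ⧸ P := Ideal.quotientMap P (algebraMap B L) hP.ge
  have hback : ∀ Q : PrimeSpectrum (L ⧸ P), (Q.asIdeal.comap h).comap (Ideal.Quotient.mk p) =
      (Q.asIdeal.comap (Ideal.Quotient.mk P)).comap (algebraMap B L) := fun Q => by
    rw [Ideal.comap_comap, Ideal.comap_comap]
    rfl
  have hle : ∀ Q : PrimeSpectrum (L ⧸ P), PrimeSpectrum.comap h Q ≤ b := fun Q => by
    show Q.asIdeal.comap h ≤ q.map (Ideal.Quotient.mk p)
    rw [← Ideal.map_comap_of_surjective _ Ideal.Quotient.mk_surjective (Q.asIdeal.comap h), hback]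
    refine Ideal.map_mono fun a ha => by_contra fun haq => ?_
    exact Q.isPrime.ne_top (Ideal.eq_top_of_isUnit_mem _ (show Ideal.Quotient.mk P (algebraMap B L a) ∈ Q.asIdeal from ha)
      ((IsLocalization.map_units L (⟨a, haq⟩ : q.primeCompl)).map _))
  have hmono : StrictMono (fun Q : PrimeSpectrum (L ⧸ P) => (⟨PrimeSpectrum.comap h Q, hle Q⟩ : Set.Iic b)) := by
    refine Monotone.strictMono_of_injective (fun Q Q' hQ => ?_) fun Q Q' e => ?_
    · exact Ideal.comap_mono (f := h) hQ
    · have e' := congrArg (fun z : Set.Iic b => z.1.asIdeal.comap (Ideal.Quotient.mk p)) e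
      simp only [PrimeSpectrum.comap_asIdeal, hback] at e'
      refine PrimeSpectrum.ext (Ideal.comap_injective_of_surjective _ Ideal.Quotient.mk_surjective ?_)
      have h1 := IsLocalization.map_comap q.primeCompl L (Q.asIdeal.comap (Ideal.Quotient.mk P))
      have h2 := IsLocalization.map_comap q.primeCompl L (Q'.asIdeal.comap (Ideal.Quotient.mk P))
      simp only [Ideal.under_def] at h1 h2
      rw [← h1, ← h2, e']
  refine (Order.krullDim_le_of_strictMono _ hmono).trans ?_
  rw [← Order.height_eq_krullDim_Iic, ← PrimeSpectrum.height_eq_orderHeight]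

variable {X : Scheme.{u}} [IsLocallyNoetherian X] {Z : Set X} {F : X.Modules}

/-- If `i_*(F|X∖T)` is coherent, then `T` has codimension `≥ 2` on the closures of the associated points off it. -/
theorem two_le_height (hF : Coh.IsQCoh F) (T : ZClos.Cl Z) (hT : Coh.IsCoh ((ZClos.resPush T.U).obj F))
    {V : X.Opens} (hV : IsAffineOpen V) {x y : X} (hx : x ∈ V) (hy : y ∈ V) (hass : x ∈ AssSch.Ass F)
    (hxT : x ∉ (T.1 : Set X)) (hyT : y ∈ (T.1 : Set X)) (h : x ⤳ y) :
    (2 : ℕ∞) ≤ ((hV.primeIdealOf ⟨y, hy⟩).asIdeal.map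
      (Ideal.Quotient.mk (hV.primeIdealOf ⟨x, hx⟩).asIdeal)).height := by
  let Z' : Set X := (T.1 : Set X)
  have hZ' : StableUnderSpecialization Z' := T.1.isClosed.stableUnderSpecialization
  let T' : ZClos.Cl Z' := ⟨T.1, subset_rfl⟩
  have htop : IsTerminal T' := IsTerminal.ofUniqueHom (fun S => homOfLE (show S ≤ T' from S.2))
    fun _ _ => Subsingleton.elim _ _
  haveI : IsIso (toH0 Z' F T') := isIso_ι_of_isTerminal htop _
  have hH : Coh.IsCoh ((ZClos.H0 Z').obj F) :=
    QCoh.isCoh_of_epi (toH0 Z' F T') hT ((QCoh.isQCoh_iff_iso (asIso (toH0 Z' F T'))).1 hT.1)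
  letI := QCoh.stalkAlg (X := X) hy
  haveI := QCoh.isLocalization_stalk' hV hy
  have h2 := two_le_dim_quot hF hH hZ' hass hxT hyT h
  refine WithBot.coe_le_coe.1 (h2.trans (dim_quot_localization_le _ _
    ((AssLib.primeIdealOf_le_iff hV hy hx).2 h) _ ?_))
  rw [← AssLib.comap_maximalIdeal_stalk hV hx, Ideal.comap_comap]
  show Ideal.comap ((X.presheaf.stalkSpecializes h).hom.comp (X.presheaf.germ V y hy).hom) _ = _
  rw [← CommRingCat.hom_comp, X.presheaf.germ_stalkSpecializes hy h]

end Groth.Agent.ZFin5
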