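import Groth.Agent.ZFin5.Affine

/-!
# The hull `(A/q)^(1)` inside the sections of `H⁰_{X/Z}((A/q)~)`
-/

set_option autoImplicit false
set_option linter.style.haveILetI false
set_option backward.isDefEq.respectTransparency false
set_option backward.isDefEq.respectTransparency.types false

universe u

open CategoryTheory CategoryTheory.Limits AlgebraicGeometry TopologicalSpace Opposite

namespace Groth.Agent.ZFin5

variable {R : CommRingCat.{u}} (q : Ideal R) [q.IsPrime]

/-- The points of `V(q)` of codimension at least two in it. -/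
def codimTwo : Set (PrimeSpectrum R) :=
  {y | q ≤ y.asIdeal ∧ (2 : ℕ∞) ≤ (y.asIdeal.map (Ideal.Quotient.mk q)).height}

omit [q.IsPrime] in
theorem codimTwo_stable : StableUnderSpecialization (X := PrimeSpectrum R) (codimTwo q) := fun x y h hx => by
  have hle : x.asIdeal ≤ y.asIdeal := (PrimeSpectrum.le_iff_specializes x y).2 h
  haveI : (y.asIdeal.map (Ideal.Quotient.mk q)).IsPrime :=
    Ideal.map_isPrime_of_surjective Ideal.Quotient.mk_surjective (by rw [Ideal.mk_ker]; exact hx.1.trans hle)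
  exact ⟨hx.1.trans hle, hx.2.trans (Ideal.height_mono (Ideal.map_mono hle))⟩

variable [IsNoetherianRing R]

/-- The elements of `A^(1)` with denominators off `V(q) ∖ codimTwo`. -/
theorem exists_denominator (z : FractionRing (R ⧸ q)) (hz : z ∈ EGA4.heightOneHull (R ⧸ q))
    (x : PrimeSpectrum R) (hx : x ∉ codimTwo q) :
    ∃ a ∉ x.asIdeal, ∃ c : R ⧸ q, algebraMap (R ⧸ q) (FractionRing (R ⧸ q)) c =
      algebraMap (R ⧸ q) (FractionRing (R ⧸ q)) (Ideal.Quotient.mk q a) * z := by
  by_cases hqx : q ≤ x.asIdeal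
  swap
  · obtain ⟨t, htq, htx⟩ := SetLike.not_le_iff_exists.1 hqx
    exact ⟨t, htx, 0, by rw [Ideal.Quotient.eq_zero_iff_mem.2 htq, map_zero, zero_mul]⟩
  haveI hp : (x.asIdeal.map (Ideal.Quotient.mk q)).IsPrime :=
    Ideal.map_isPrime_of_surjective Ideal.Quotient.mk_surjective (by rwa [Ideal.mk_ker])
  have hlt : (x.asIdeal.map (Ideal.Quotient.mk q)).height < 2 := not_le.1 fun h => hx ⟨hqx, h⟩
  rcases (Order.le_of_lt_add_one (show (x.asIdeal.map (Ideal.Quotient.mk q)).height < 1 + 1 from hlt)).eq_or_lt with h1 | h1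
  · obtain ⟨s, hs, c, hc⟩ := hz (x.asIdeal.map (Ideal.Quotient.mk q)) h1
    obtain ⟨a, rfl⟩ := Ideal.Quotient.mk_surjective s
    exact ⟨a, fun ha => hs (Ideal.mem_map_of_mem _ ha), c, hc⟩
  · have hbot := Ideal.height_eq_zero_iff_eq_bot.1 (ENat.lt_one_iff_eq_zero.1 h1)
    obtain ⟨c, d, hd, rfl⟩ := IsFractionRing.div_surjective (A := R ⧸ q) z
    obtain ⟨a, rfl⟩ := Ideal.Quotient.mk_surjective d
    refine ⟨a, fun ha => nonZeroDivisors.ne_zero hd ?_, c, ?_⟩
    · have : Ideal.Quotient.mk q a ∈ x.asIdeal.map (Ideal.Quotient.mk q) := Ideal.mem_map_of_mem _ ha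
      rwa [hbot, Ideal.mem_bot] at this
    · rw [mul_div_cancel₀]
      exact fun h => nonZeroDivisors.ne_zero hd ((IsFractionRing.to_map_eq_zero_iff).1 h)

/-- Sections of `H⁰` attached to the elements of `A^(1)`. -/
theorem exists_section (z : FractionRing (R ⧸ q)) (hz : z ∈ EGA4.heightOneHull (R ⧸ q)) :
    ∃ n : Γ((ZClos.H0 (X := Spec R) (codimTwo q)).obj (tilde (ModuleCat.of R (R ⧸ q))), ⊤),
      ∀ (a : R) (c : R ⧸ q), algebraMap (R ⧸ q) (FractionRing (R ⧸ q)) c =
        algebraMap (R ⧸ q) (FractionRing (R ⧸ q)) (Ideal.Quotient.mk q a) * z →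
        a • n = rhoAlg (R := R) (R ⧸ q) (codimTwo q) c := by
  let K := FractionRing (R ⧸ q)
  let e := (Scheme.ΓSpecIso R).commRingCatIsoToRingEquiv
  have he : ∀ a : R, e (algebraMap R Γ(Spec R, ⊤) a) = a := fun a => e.apply_symm_apply a
  have he' : ∀ s, algebraMap R Γ(Spec R, ⊤) (e s) = s := fun s => e.symm_apply_apply s
  let J₀ : Ideal R :=
    { carrier := {a | ∃ c, algebraMap (R ⧸ q) K c = algebraMap (R ⧸ q) K (Ideal.Quotient.mk q a) * z}
      add_mem' := fun {a b} ⟨c, hc⟩ ⟨d, hd⟩ => ⟨c + d, by rw [map_add, map_add, map_add, hc, hd, add_mul]⟩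
      zero_mem' := ⟨0, by simp⟩
      smul_mem' := fun r a ⟨c, hc⟩ => ⟨Ideal.Quotient.mk q r * c, by
        rw [smul_eq_mul, map_mul, map_mul, map_mul, hc, mul_assoc]⟩ }
  let J : Ideal Γ(Spec R, ⊤) := J₀.comap e.toRingHom
  choose v hv using fun s : J => (show e s.1 ∈ J₀ from s.2)
  have huniq : ∀ (a : R) c c', algebraMap (R ⧸ q) K c = algebraMap (R ⧸ q) K (Ideal.Quotient.mk q a) * z →
      algebraMap (R ⧸ q) K c' = algebraMap (R ⧸ q) K (Ideal.Quotient.mk q a) * z → c = c' := fun a c c' h h' =>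
    IsFractionRing.injective (R ⧸ q) K (h.trans h'.symm)
  let top := (tilde.toOpen (ModuleCat.of R (R ⧸ q)) ⊤).hom
  let φ : J →ₗ[Γ(Spec R, ⊤)] Γ(tilde (ModuleCat.of R (R ⧸ q)), ⊤) :=
    { toFun := fun s => top (v s)
      map_add' := fun s t => by
        have : v (s + t) = v s + v t := huniq (e (s + t).1) _ _ (hv (s + t)) (by
          rw [Submodule.coe_add, map_add e, map_add, map_add, map_add, hv s, hv t, add_mul])
        rw [this]
        exact map_add top _ _
      map_smul' := fun r s => by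
        have : v (r • s) = e r • v s := huniq (e (r • s).1) _ _ (hv (r • s)) (by
          rw [show e r • v s = Ideal.Quotient.mk q (e r) * v s from rfl, Submodule.coe_smul, smul_eq_mul, map_mul e,
            map_mul, map_mul, map_mul, hv s, mul_assoc])
        rw [this, RingHom.id_apply]
        refine (map_smul top _ _).trans ?_
        refine (algebraMap_smul Γ(Spec R, ⊤) (e r)
          (show Γ(tilde (ModuleCat.of R (R ⧸ q)), ⊤) from top (v s))).symm.trans ?_
        rw [he'] }
  obtain ⟨n, hn⟩ := exists_H0_section (X := Spec R) (F := tilde (ModuleCat.of R (R ⧸ q)))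
    (isQCoh_tildeOf (R ⧸ q)) (codimTwo_stable q) (isAffineOpen_top (Spec R)) J φ (fun p hp => by
      obtain ⟨x, hx, rfl, hxZ⟩ := exists_point_notMem (X := Spec R) (isAffineOpen_top (Spec R)) p hp
      obtain ⟨a, ha, c, hc⟩ := exists_denominator q z hz x hxZ
      refine ⟨algebraMap R _ a, show e _ ∈ J₀ from ?_, fun h => ha ((mem_primeIdealOf_top x a).1 h)⟩
      rw [he]
      exact ⟨c, hc⟩)
  refine ⟨n, fun a c hc => ?_⟩
  have hmem : algebraMap R Γ(Spec R, ⊤) a ∈ J := by
    show e _ ∈ J₀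
    rw [he]
    exact ⟨c, hc⟩
  have hv' : v ⟨_, hmem⟩ = c := huniq (e (algebraMap R Γ(Spec R, ⊤) a)) _ _ (hv ⟨_, hmem⟩) (by rw [he]; exact hc)
  refine (algebraMap_smul _ _ _).symm.trans ((hn ⟨_, hmem⟩).trans ?_)
  rw [show φ ⟨_, hmem⟩ = top (v ⟨_, hmem⟩) from rfl, hv']
  rfl

/-- If `H⁰_{X/Z}((A/q)~)` is coherent for `Z = codimTwo q`, then `(A/q)^(1)` is finite. -/
theorem heightOneHullFinite_of_isCoh
    (hH : Coh.IsCoh ((ZClos.H0 (X := Spec R) (codimTwo q)).obj (tilde (ModuleCat.of R (R ⧸ q))))) :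
    EGA4.HeightOneHullFinite (R ⧸ q) := by
  let B := R ⧸ q
  let K := FractionRing B
  let T : Subalgebra B K :=
    { carrier := EGA4.heightOneHull B
      mul_mem' := by
        intro x y hx hy p hp h
        obtain ⟨s, hs, a, ha⟩ := hx p h
        obtain ⟨t, ht, b, hb⟩ := hy p h
        exact ⟨s * t, hp.mul_notMem hs ht, a * b, by rw [map_mul, map_mul, ha, hb]; ring⟩
      add_mem' := by
        intro x y hx hy p hp h
        obtain ⟨s, hs, a, ha⟩ := hx p h
        obtain ⟨t, ht, b, hb⟩ := hy p h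
        exact ⟨s * t, hp.mul_notMem hs ht, a * t + b * s, by
          rw [map_add, map_mul, map_mul, map_mul, ha, hb]; ring⟩
      algebraMap_mem' := fun r p hp _ => ⟨1, fun h => hp.ne_top ((Ideal.eq_top_iff_one p).2 h), r, by simp [K]⟩ }
  refine ⟨T, rfl, ?_⟩
  let S : Submodule R K := (Subalgebra.toSubmodule T).restrictScalars R
  haveI := finite_of_isCoh_H0_tildeOf B (codimTwo q) hH
  have hd := dense_rhoAlg (R := R) B (codimTwo q) (codimTwo_stable q)
  choose g hg using fun z : S => exists_section q z.1 z.2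
  have huniq : ∀ (z : S) n, (∀ x ∉ codimTwo q, ∃ a ∉ x.asIdeal, ∃ c, algebraMap B K c =
      algebraMap B K (Ideal.Quotient.mk q a) * z.1 ∧ a • n = rhoAlg (R := R) B (codimTwo q) c) → g z = n :=
    fun z n h => sub_eq_zero.1 (hd.pure _ fun x hx => by
      obtain ⟨a, ha, c, hc, e⟩ := h x hx
      exact ⟨a, ha, by rw [smul_sub, hg z a c hc, e, sub_self]⟩)
  let gl : S →ₗ[R] Γ((ZClos.H0 (X := Spec R) (codimTwo q)).obj (tilde (ModuleCat.of R B)), ⊤) :=
    { toFun := g
      map_add' := fun z w => huniq _ _ fun x hx => by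
        obtain ⟨a, ha, c, hc⟩ := exists_denominator q z.1 z.2 x hx
        obtain ⟨b, hb, d, hd'⟩ := exists_denominator q w.1 w.2 x hx
        refine ⟨a * b, x.isPrime.mul_notMem ha hb, b • c + a • d, ?_, ?_⟩
        · rw [show b • c = Ideal.Quotient.mk q b * c from rfl, show a • d = Ideal.Quotient.mk q a * d from rfl,
            Submodule.coe_add, map_add, map_mul, map_mul, map_mul, map_mul, hc, hd']
          ring
        · rw [map_add, map_smul, map_smul, smul_add, ← hg z a c hc, ← hg w b d hd', smul_smul, smul_smul,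
            mul_comm a b]
      map_smul' := fun r z => huniq _ _ fun x hx => by
        obtain ⟨a, ha, c, hc⟩ := exists_denominator q z.1 z.2 x hx
        refine ⟨a, ha, r • c, ?_, ?_⟩
        · rw [show r • c = Ideal.Quotient.mk q r * c from rfl, Submodule.coe_smul, map_mul, hc, Algebra.smul_def,
            IsScalarTower.algebraMap_apply R B K, Ideal.Quotient.algebraMap_eq]
          ring
        · rw [RingHom.id_apply, map_smul, ← hg z a c hc, smul_comm] }
  have hinj : Function.Injective gl := (injective_iff_map_eq_zero gl).2 fun z (hz : g z = 0) => by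
    let x : PrimeSpectrum R := ⟨q, inferInstance⟩
    have hx : x ∉ codimTwo q := fun h => by
      have := h.2
      rw [Ideal.map_quotient_self] at this
      simp at this
    obtain ⟨a, ha, c, hc⟩ := exists_denominator q z.1 z.2 x hx
    obtain ⟨w, hw, e⟩ := hd.inj x hx c (by rw [← hg z a c hc, hz, smul_zero])
    have hc0 : c = 0 := by
      rcases mul_eq_zero.1 (show Ideal.Quotient.mk q w * c = 0 from e) with h | h
      · exact absurd (Ideal.Quotient.eq_zero_iff_mem.1 h) hw
      · exact h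
    rw [hc0, map_zero, eq_comm, mul_eq_zero, IsFractionRing.to_map_eq_zero_iff, Ideal.Quotient.eq_zero_iff_mem] at hc
    exact Subtype.ext (hc.resolve_left ha)
  haveI hS : Module.Finite R S := Module.Finite.of_injective gl hinj
  haveI : Module.Finite R T := hS
  exact Module.Finite.of_restrictScalars_finite R B T

end Groth.Agent.ZFin5
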