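import Groth.Agent.ZFin5.Sch
import Groth.Prelude.Def_EGA4c

/-!
# `H⁰_{X/Z}(M~)` on an affine scheme
-/

set_option autoImplicit false
set_option linter.style.haveILetI false
set_option backward.isDefEq.respectTransparency false
set_option backward.isDefEq.respectTransparency.types false

universe u

open CategoryTheory CategoryTheory.Limits AlgebraicGeometry TopologicalSpace Opposite

namespace Groth.Agent.ZFin5

open ZClosLib

variable {R : CommRingCat.{u}}

local notation "SS" => Spec R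

theorem algebraMap_top_surjective : Function.Surjective (algebraMap R Γ(SS, ⊤)) :=
  (Scheme.ΓSpecIso (R)).commRingCatIsoToRingEquiv.symm.surjective

theorem mem_primeIdealOf_top (x : PrimeSpectrum R) (a : R) :
    algebraMap R Γ(SS, ⊤) a ∈ ((isAffineOpen_top SS).primeIdealOf ⟨x, trivial⟩).asIdeal ↔ a ∈ x.asIdeal := by
  refine not_iff_not.1 ?_
  rw [← QCoh.mem_basicOpen_iff_notMem]
  show x ∈ (Spec R).basicOpen ((Scheme.ΓSpecIso (R)).inv a) ↔ _
  rw [basicOpen_eq_of_affine]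
  rfl

variable (M : Type u) [AddCommGroup M] [Module R M] (Z : Set (PrimeSpectrum R))

/-- `M → Γ(SS, H⁰_{X/Z}(M~))`. -/
noncomputable def rhoAlg : M →ₗ[R] Γ((ZClos.H0 (X := SS) Z).obj (tilde (ModuleCat.of R M)), ⊤) :=
  ((QCoh.appLin (ZClos.rhoApp (X := SS) Z (tilde (ModuleCat.of R M))) ⊤).restrictScalars R).comp
    (tilde.toOpen (ModuleCat.of R M) ⊤).hom

theorem toOpen_bijective : Function.Bijective
    ⇑(ConcreteCategory.hom (tilde.toOpen (ModuleCat.of R M) ⊤)) :=
  ConcreteCategory.bijective_of_isIso _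

variable [IsNoetherianRing R]

theorem isQCoh_tildeOf : Coh.IsQCoh (tilde (ModuleCat.of R M)) := by
  show SheafOfModules.IsQuasicoherent (R := (Spec R).ringCatSheaf) _
  infer_instance

theorem dense_rhoAlg (hZ : StableUnderSpecialization (X := PrimeSpectrum R) Z) : Dense Z (rhoAlg M Z) := by
  have hd := dense_rho (X := SS) (Z := Z) (isQCoh_tildeOf M) hZ (isAffineOpen_top SS)
  have hq : ∀ x ∉ Z, (isAffineOpen_top SS).primeIdealOf ⟨(x : PrimeSpectrum R), trivial⟩ ∉
      primeSet (X := SS) (isAffineOpen_top SS) Z := fun x hx h =>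
    hx ((mem_primeSet_iff (X := SS) (isAffineOpen_top SS) (x := x) trivial).1 h)
  refine ⟨fun x hx n => ?_, fun x hx m hm => ?_, fun n hn => hd.pure n fun q hq' => ?_⟩
  · obtain ⟨s, hs, m, e⟩ := hd.surj _ (hq x hx) n
    obtain ⟨a, rfl⟩ := algebraMap_top_surjective s
    obtain ⟨m, rfl⟩ := (toOpen_bijective M).2 m
    exact ⟨a, fun h => hs ((mem_primeIdealOf_top x a).2 h), m, e.trans (algebraMap_smul _ _ _)⟩
  · obtain ⟨s, hs, e⟩ := hd.inj _ (hq x hx) _ hm
    obtain ⟨a, rfl⟩ := algebraMap_top_surjective s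
    refine ⟨a, fun h => hs ((mem_primeIdealOf_top x a).2 h), (toOpen_bijective (R := R) M).1 ?_⟩
    rw [map_smul, map_zero]
    exact ((algebraMap_smul Γ(SS, ⊤) a (show Γ(tilde (ModuleCat.of R M), ⊤) from _)).symm.trans e : _)
  · obtain ⟨x, hx, rfl, hxZ⟩ := exists_point_notMem (X := SS) (isAffineOpen_top SS) q hq'
    obtain ⟨a, ha, e⟩ := hn x hxZ
    exact ⟨algebraMap R _ a, fun h => ha ((mem_primeIdealOf_top x a).1 h), (algebraMap_smul _ _ _).trans e⟩

theorem isCoh_H0_tildeOf (hfin : Module.Finite R Γ((ZClos.H0 (X := SS) Z).obj (tilde (ModuleCat.of R M)), ⊤)) :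
    Coh.IsCoh ((ZClos.H0 (X := SS) Z).obj (tilde (ModuleCat.of R M))) := by
  have hq := isQCoh_H0 (X := SS) (Z := Z) (isQCoh_tildeOf M)
  exact ⟨hq, (QCoh.isFT_iff_finite _ hq).2 hfin⟩

theorem isCoh_H0_tildeOf_of_cond [Module.Finite R M] (hZ : StableUnderSpecialization (X := PrimeSpectrum R) Z)
    (hc : ∀ x : PrimeSpectrum R, x.asIdeal ∈ associatedPrimes R M → Cond Z x.asIdeal) :
    Coh.IsCoh ((ZClos.H0 (X := SS) Z).obj (tilde (ModuleCat.of R M))) :=
  isCoh_H0_tildeOf M Z (finite_of_dense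
    (fun x y hle hx => hZ ((PrimeSpectrum.le_iff_specializes x y).1 hle) hx) M hc _ _ (dense_rhoAlg M Z hZ))

theorem finite_of_isCoh_H0_tildeOf (hH : Coh.IsCoh ((ZClos.H0 (X := SS) Z).obj (tilde (ModuleCat.of R M)))) :
    Module.Finite R Γ((ZClos.H0 (X := SS) Z).obj (tilde (ModuleCat.of R M)), ⊤) :=
  (QCoh.isFT_iff_finite _ hH.1).1 hH.2

end Groth.Agent.ZFin5
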