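import Mathlib
import Groth.Prelude.Def_EGA4b

/-!
# Finiteness of modules of sections outside a set of primes

`Dense Z ρ` axiomatises `ρ : M → Γ(Spec A, H⁰_{X/Z}(M~))`.  If for every associated prime `p` of `M` outside
`Z` the hull `(A/p)^(1)` is finite and `Z ∩ V(p)` has codimension `≥ 2` in `V(p)`, the target is finite.
-/

set_option autoImplicit false
set_option linter.style.haveILetI false

universe u

namespace Groth.Agent.ZFin5

variable {A : Type u} [CommRing A] (Z : Set (PrimeSpectrum A))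

section Dense

variable {M : Type u} [AddCommGroup M] [Module A M] {N : Type u} [AddCommGroup N] [Module A N]

/-- `ρ` is bijective off `Z`, and the target has no sections supported in `Z`. -/
structure Dense (ρ : M →ₗ[A] N) : Prop where
  surj : ∀ x ∉ Z, ∀ n : N, ∃ s ∉ x.asIdeal, ∃ m : M, ρ m = s • n
  inj : ∀ x ∉ Z, ∀ m : M, ρ m = 0 → ∃ s ∉ x.asIdeal, s • m = 0
  pure : ∀ n : N, (∀ x ∉ Z, ∃ s ∉ x.asIdeal, s • n = 0) → n = 0

variable (M) in
/-- Every dense target of `M` is finite. -/
def FinHull : Prop :=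
  ∀ (N : Type u) [AddCommGroup N] [Module A N] (ρ : M →ₗ[A] N), Dense Z ρ → Module.Finite A N

variable (M) in
/-- Every module embedded in `M` has finite dense targets. -/
def HFinHull : Prop :=
  ∀ (L : Type u) [AddCommGroup L] [Module A L] (i : L →ₗ[A] M), Function.Injective i → FinHull Z L

variable {Z}

theorem finHull_of_submodule (M₁ : Submodule A M) (h₁ : FinHull Z M₁) (h₂ : FinHull Z (M ⧸ M₁)) :
    FinHull Z M := by
  intro N _ _ ρ hρ
  let N₁ : Submodule A N :=
    { carrier := {n | ∀ x ∉ Z, ∃ s ∉ x.asIdeal, ∃ m ∈ M₁, ρ m = s • n}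
      add_mem' := by
        intro a b ha hb x hx
        obtain ⟨s, hs, m, hm, e⟩ := ha x hx
        obtain ⟨t, ht, m', hm', e'⟩ := hb x hx
        refine ⟨s * t, x.isPrime.mul_notMem hs ht, t • m + s • m', add_mem (M₁.smul_mem _ hm) (M₁.smul_mem _ hm'), ?_⟩
        rw [map_add, map_smul, map_smul, e, e', smul_add, smul_smul, smul_smul, mul_comm t s]
      zero_mem' := fun x _ => ⟨1, x.asIdeal.one_notMem, 0, zero_mem _, by simp⟩
      smul_mem' := by
        intro a n hn x hx
        obtain ⟨s, hs, m, hm, e⟩ := hn x hx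
        exact ⟨s, hs, a • m, M₁.smul_mem _ hm, by rw [map_smul, e, smul_comm]⟩ }
  have hle : ∀ m ∈ M₁, ρ m ∈ N₁ := fun m hm x _ => ⟨1, x.asIdeal.one_notMem, m, hm, by simp⟩
  let ρ₁ : M₁ →ₗ[A] N₁ := (ρ.comp M₁.subtype).codRestrict N₁ fun m => hle m m.2
  let ρ₂ : (M ⧸ M₁) →ₗ[A] N ⧸ N₁ := M₁.mapQ N₁ ρ fun m hm => hle m hm
  haveI : Module.Finite A N₁ := h₁ N₁ ρ₁
    { surj := fun x hx n => by
        obtain ⟨s, hs, m, hm, e⟩ := n.2 x hx
        exact ⟨s, hs, ⟨m, hm⟩, Subtype.ext e⟩
      inj := fun x hx m e => by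
        obtain ⟨s, hs, e'⟩ := hρ.inj x hx m (congrArg Subtype.val e)
        exact ⟨s, hs, Subtype.ext e'⟩
      pure := fun n h => Subtype.ext (hρ.pure n fun x hx => by
        obtain ⟨s, hs, e⟩ := h x hx
        exact ⟨s, hs, congrArg Subtype.val e⟩) }
  haveI : Module.Finite A (N ⧸ N₁) := h₂ _ ρ₂
    { surj := fun x hx n => by
        obtain ⟨n, rfl⟩ := Submodule.mkQ_surjective _ n
        obtain ⟨s, hs, m, e⟩ := hρ.surj x hx n
        refine ⟨s, hs, Submodule.Quotient.mk m, ?_⟩
        rw [Submodule.mapQ_apply, e]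
        rfl
      inj := fun x hx m e => by
        obtain ⟨m, rfl⟩ := Submodule.mkQ_surjective _ m
        rw [Submodule.mkQ_apply, Submodule.mapQ_apply, Submodule.Quotient.mk_eq_zero] at e
        obtain ⟨s, hs, m', hm', e'⟩ := e x hx
        obtain ⟨t, ht, e''⟩ := hρ.inj x hx (s • m - m') (by rw [map_sub, map_smul, e', sub_self])
        refine ⟨t * s, x.isPrime.mul_notMem ht hs, ?_⟩
        rw [Submodule.mkQ_apply, ← Submodule.Quotient.mk_smul, Submodule.Quotient.mk_eq_zero, mul_smul]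
        rw [smul_sub, sub_eq_zero] at e''
        rw [e'']
        exact M₁.smul_mem _ hm'
      pure := fun n h => by
        obtain ⟨n, rfl⟩ := Submodule.mkQ_surjective _ n
        rw [Submodule.mkQ_apply, Submodule.Quotient.mk_eq_zero]
        intro x hx
        obtain ⟨s, hs, e⟩ := h x hx
        rw [Submodule.mkQ_apply, ← Submodule.Quotient.mk_smul, Submodule.Quotient.mk_eq_zero] at e
        obtain ⟨t, ht, m, hm, e'⟩ := e x hx
        exact ⟨t * s, x.isPrime.mul_notMem ht hs, m, hm, by rw [e', mul_smul]⟩ }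
  exact Module.Finite.of_submodule_quotient N₁

theorem finHull_of_subsingleton [Subsingleton M] : FinHull Z M := by
  intro N _ _ ρ hρ
  haveI : Subsingleton N := subsingleton_of_forall_eq 0 fun n => hρ.pure n fun x hx => by
    obtain ⟨s, hs, m, e⟩ := hρ.surj x hx n
    exact ⟨s, hs, by rw [← e, Subsingleton.elim m 0, map_zero]⟩
  infer_instance

theorem hFinHull_of_subsingleton [Subsingleton M] : HFinHull Z M := fun _ _ _ _ hi =>
  haveI := hi.subsingleton
  finHull_of_subsingleton

theorem hFinHull_of_ker_inf {M₁ M₂ : Type u} [AddCommGroup M₁] [Module A M₁] [AddCommGroup M₂] [Module A M₂]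
    (f₁ : M →ₗ[A] M₁) (f₂ : M →ₗ[A] M₂) (h : LinearMap.ker f₁ ⊓ LinearMap.ker f₂ = ⊥)
    (h₁ : HFinHull Z M₁) (h₂ : HFinHull Z M₂) : HFinHull Z M := by
  intro L _ _ i hi
  let K : Submodule A L := LinearMap.ker (f₁.comp i)
  refine finHull_of_submodule K (h₂ _ ((f₂.comp i).comp K.subtype) ?_)
    (h₁ _ (K.liftQ (f₁.comp i) le_rfl) ?_)
  · refine (injective_iff_map_eq_zero _).2 fun z hz => Subtype.ext (hi ?_)
    have : i z.1 ∈ LinearMap.ker f₁ ⊓ LinearMap.ker f₂ := ⟨z.2, hz⟩
    rw [h, Submodule.mem_bot] at this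
    rw [this, Submodule.coe_zero, map_zero]
  · exact LinearMap.ker_eq_bot.1 (Submodule.ker_liftQ_eq_bot _ _ _ le_rfl)

theorem hFinHull_quotient_inf (t : Finset (Submodule A M)) (h : ∀ q ∈ t, HFinHull Z (M ⧸ q)) :
    HFinHull Z (M ⧸ t.inf id) := by
  classical
  induction t using Finset.induction_on with
  | empty =>
    rw [Finset.inf_empty]
    exact hFinHull_of_subsingleton
  | insert q s hq IH =>
    rw [Finset.inf_insert, id]
    refine hFinHull_of_ker_inf (Submodule.factor inf_le_left) (Submodule.factor inf_le_right) ?_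
      (h q (Finset.mem_insert_self _ _)) (IH fun r hr => h r (Finset.mem_insert_of_mem hr))
    refine eq_bot_iff.2 fun z hz => ?_
    obtain ⟨z, rfl⟩ := Submodule.mkQ_surjective _ z
    obtain ⟨h1, h2⟩ := hz
    simp only [SetLike.mem_coe, LinearMap.mem_ker, Submodule.mkQ_apply, Submodule.mapQ_apply, Submodule.factor,
      LinearMap.id_apply, Submodule.Quotient.mk_eq_zero] at h1 h2
    rw [Submodule.mem_bot, Submodule.mkQ_apply, Submodule.Quotient.mk_eq_zero]
    exact ⟨h1, h2⟩

end Dense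

/-- A torsion-free finite module over a domain sits in a power of the fraction field with integral coordinates. -/
theorem exists_integral_embedding (B : Type u) [CommRing B] [IsDomain B] (M : Type u) [AddCommGroup M]
    [Module B M] [Module.Finite B M] (h : ∀ b : B, b ≠ 0 → ∀ m : M, b • m = 0 → m = 0) :
    ∃ (r : ℕ) (f : M →ₗ[B] Fin r → FractionRing B), Function.Injective f ∧
      ∀ m j, f m j ∈ LinearMap.range (Algebra.linearMap B (FractionRing B)) := by
  classical
  let K := FractionRing B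
  let V := LocalizedModule (nonZeroDivisors B) M
  let ι : M →ₗ[B] V := LocalizedModule.mkLinearMap _ M
  haveI : Module.Finite K V := Module.Finite.of_isLocalizedModule (nonZeroDivisors B) ι
  let b := Module.finBasis K V
  let f₀ : M →ₗ[B] Fin _ → K := (b.equivFun.restrictScalars B).toLinearMap.comp ι
  have hι : Function.Injective ι := (injective_iff_map_eq_zero ι).2 fun m hm => by
    obtain ⟨⟨c, hc⟩, e⟩ := (IsLocalizedModule.eq_zero_iff (nonZeroDivisors B) ι).1 hm
    exact h c (nonZeroDivisors.ne_zero hc) m e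
  have hf₀ : Function.Injective f₀ := b.equivFun.injective.comp hι
  obtain ⟨S, hS⟩ := Module.Finite.fg_top (R := B) (M := M)
  obtain ⟨⟨c, hc⟩, hcS⟩ := IsLocalization.exist_integer_multiples_of_finset (nonZeroDivisors B)
    ((S ×ˢ Finset.univ).image fun p => f₀ p.1 p.2)
  refine ⟨_, c • f₀, fun m m' e => hf₀ ?_, fun m j => ?_⟩
  · refine funext fun j => ?_
    have := congrFun e j
    simp only [LinearMap.smul_apply, Pi.smul_apply, Algebra.smul_def] at this
    exact mul_left_cancel₀ (fun h0 => nonZeroDivisors.ne_zero hc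
      (IsFractionRing.injective B K (h0.trans (map_zero _).symm))) this
  · have hle : (⊤ : Submodule B M) ≤ (LinearMap.range (Algebra.linearMap B K)).comap
        ((LinearMap.proj j).comp (c • f₀)) := by
      rw [← hS, Submodule.span_le]
      intro s hs
      obtain ⟨a, ha⟩ := hcS (f₀ s j) (Finset.mem_image.2 ⟨(s, j), Finset.mem_product.2 ⟨hs, Finset.mem_univ _⟩, rfl⟩)
      exact ⟨a, ha⟩
    exact hle (Submodule.mem_top (x := m))

variable {Z} (p : Ideal A) [p.IsPrime]

/-- The hypothesis at a prime outside `Z`. -/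
def Cond (Z : Set (PrimeSpectrum A)) (p : Ideal A) [p.IsPrime] : Prop :=
  (⟨p, inferInstance⟩ : PrimeSpectrum A) ∈ Z ∨
    (EGA4.HeightOneHullFinite (A ⧸ p) ∧
      ∀ y ∈ Z, p ≤ y.asIdeal → (2 : ℕ∞) ≤ (y.asIdeal.map (Ideal.Quotient.mk p)).height)

theorem finHull_torsionFree [IsNoetherianRing A] (hZ : ∀ ⦃x y : PrimeSpectrum A⦄, x ≤ y → x ∈ Z → y ∈ Z) (hc : Cond Z p)
    (M : Type u) [AddCommGroup M] [Module A M] [Module.Finite A M]
    (hkill : ∀ a ∈ p, ∀ m : M, a • m = 0) (htf : ∀ a ∉ p, ∀ m : M, a • m = 0 → m = 0) :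
    FinHull Z M := by
  intro N _ _ ρ hρ
  have hout : ∀ x : PrimeSpectrum A, x ∉ Z → ¬ p ≤ x.asIdeal → ∀ n : N, ∃ s ∉ x.asIdeal, s • n = 0 := fun x hx hpx n => by
    obtain ⟨t, htp, htx⟩ := SetLike.not_le_iff_exists.1 hpx
    obtain ⟨s, hs, m, e⟩ := hρ.surj x hx n
    exact ⟨t * s, x.isPrime.mul_notMem htx hs, by rw [mul_smul, ← e, ← map_smul, hkill t htp m, map_zero]⟩
  by_cases hpZ : (⟨p, inferInstance⟩ : PrimeSpectrum A) ∈ Z
  · haveI : Subsingleton N := subsingleton_of_forall_eq 0 fun n =>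
      hρ.pure n fun x hx => hout x hx (fun hle => hx (hZ (x := ⟨p, inferInstance⟩) hle hpZ)) n
    infer_instance
  obtain ⟨⟨B', hB', hfin⟩, hcod⟩ := hc.resolve_left hpZ
  let B := A ⧸ p
  let K := FractionRing B
  have htors : Module.IsTorsionBySet A M (p : Set A) := fun m a => hkill a a.2 m
  letI : Module B M := htors.module
  haveI : IsScalarTower A B M := htors.isScalarTower
  haveI : Module.Finite B M := Module.Finite.of_restrictScalars_finite A B M
  obtain ⟨r, f, hf, hfint⟩ := exists_integral_embedding B M (fun b hb m e => by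
    obtain ⟨a, rfl⟩ := Ideal.Quotient.mk_surjective b
    exact htf a (fun ha => hb (Ideal.Quotient.eq_zero_iff_mem.2 ha)) m e)
  let ι : A →+* K := (algebraMap B K).comp (Ideal.Quotient.mk p)
  have hι : ∀ a : A, ι a = 0 ↔ a ∈ p := fun a => by
    show algebraMap B K (Ideal.Quotient.mk p a) = 0 ↔ _
    rw [IsFractionRing.to_map_eq_zero_iff, Ideal.Quotient.eq_zero_iff_mem]
  have hfs : ∀ (a : A) (m : M) j, f (a • m) j = ι a * f m j := fun a m j => by
    rw [← algebraMap_smul B a m, map_smul, Pi.smul_apply, Algebra.smul_def]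
    rfl
  have hAK : ∀ (a : A) (v : K), a • v = ι a * v := fun a v => by
    rw [Algebra.smul_def, IsScalarTower.algebraMap_apply A B K]
    rfl
  have key : ∀ n : N, ∃ v : Fin r → K, ∀ s : A, ∀ m, ρ m = s • n → ∀ j, f m j = ι s * v j := fun n => by
    obtain ⟨s₀, hs₀, m₀, e₀⟩ := hρ.surj ⟨p, inferInstance⟩ hpZ n
    have h0 : ι s₀ ≠ 0 := fun h => hs₀ ((hι s₀).1 h)
    refine ⟨fun j => f m₀ j / ι s₀, fun s m e j => ?_⟩
    obtain ⟨w, hw, ew⟩ := hρ.inj ⟨p, inferInstance⟩ hpZ (s₀ • m - s • m₀)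
      (by rw [map_sub, map_smul, map_smul, e, e₀, smul_comm, sub_self])
    have he := congrArg (fun z => f z j) (sub_eq_zero.1 (htf w hw _ ew))
    simp only [hfs] at he
    rw [← mul_div_assoc, eq_div_iff h0, mul_comm, he]
  choose g hg using key
  have huniq : ∀ n v, (∃ s ∉ p, ∃ m, ρ m = s • n ∧ ∀ j, f m j = ι s * v j) → g n = v := by
    rintro n v ⟨s, hs, m, e, hv⟩
    exact funext fun j => mul_left_cancel₀ (fun h => hs ((hι s).1 h)) ((hg n s m e j).symm.trans (hv j))
  let gl : N →ₗ[A] Fin r → K :=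
    { toFun := g
      map_add' := fun a b => huniq _ _ (by
        obtain ⟨s, hs, m, e⟩ := hρ.surj ⟨p, inferInstance⟩ hpZ a
        obtain ⟨t, ht, m', e'⟩ := hρ.surj ⟨p, inferInstance⟩ hpZ b
        refine ⟨s * t, Ideal.IsPrime.mul_notMem ‹_› hs ht, t • m + s • m', ?_, fun j => ?_⟩
        · rw [map_add, map_smul, map_smul, e, e', smul_add, smul_smul, smul_smul, mul_comm t s]
        · rw [map_add, Pi.add_apply, Pi.add_apply, hfs, hfs, hg a s m e j, hg b t m' e' j, map_mul]
          ring)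
      map_smul' := fun a n => huniq _ _ (by
        obtain ⟨s, hs, m, e⟩ := hρ.surj ⟨p, inferInstance⟩ hpZ n
        refine ⟨s, hs, a • m, by rw [map_smul, e, smul_comm], fun j => ?_⟩
        rw [hfs, hg n s m e j, RingHom.id_apply, Pi.smul_apply, hAK]
        ring) }
  have hinj : Function.Injective gl := (injective_iff_map_eq_zero gl).2 fun n (hn : g n = 0) =>
    hρ.pure n fun x hx => by
      by_cases hpx : p ≤ x.asIdeal
      · obtain ⟨u, hu, m, e⟩ := hρ.surj x hx n
        have hm : m = 0 := hf (funext fun j => by rw [hg n u m e j, hn, Pi.zero_apply, mul_zero, map_zero, Pi.zero_apply])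
        exact ⟨u, hu, by rw [← e, hm, map_zero]⟩
      · exact hout x hx hpx n
  let S : Submodule A K := (Subalgebra.toSubmodule B').restrictScalars A
  have hmem : ∀ n j, gl n j ∈ S := fun n j => by
    show g n j ∈ (B' : Set K)
    rw [hB']
    intro P hP hP1
    let x : PrimeSpectrum A := ⟨P.comap (Ideal.Quotient.mk p), inferInstance⟩
    have hpx : p ≤ x.asIdeal := fun a ha => by
      show Ideal.Quotient.mk p a ∈ P
      rw [Ideal.Quotient.eq_zero_iff_mem.2 ha]
      exact zero_mem _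
    have hx : x ∉ Z := fun hxZ => by
      have := hcod x hxZ hpx
      rw [Ideal.map_comap_of_surjective _ Ideal.Quotient.mk_surjective, hP1] at this
      exact absurd this (by norm_num)
    obtain ⟨u, hu, m, e⟩ := hρ.surj x hx n
    obtain ⟨a, ha⟩ := hfint m j
    exact ⟨Ideal.Quotient.mk p u, hu, a, ha.trans (hg n u m e j)⟩
  haveI : Module.Finite A S := Module.Finite.iff_fg.2
    (Submodule.FG.restrictScalars_of_surjective (A := B) (Module.Finite.iff_fg.1 hfin) Ideal.Quotient.mk_surjective)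
  let gS : N →ₗ[A] Fin r → S :=
    LinearMap.pi fun j => ((LinearMap.proj j).comp gl).codRestrict S fun n => hmem n j
  have hgS : Function.Injective gS := fun a b e =>
    hinj (funext fun j => congrArg (fun v : Fin r → S => (v j : K)) e)
  exact Module.Finite.of_injective gS hgS

variable [IsNoetherianRing A]

theorem finHull_coprimary (hZ : ∀ ⦃x y : PrimeSpectrum A⦄, x ≤ y → x ∈ Z → y ∈ Z) (hc : Cond Z p) (k : ℕ) :
    ∀ (M : Type u) [AddCommGroup M] [Module A M] [Module.Finite A M],
      (∀ a ∈ p ^ k, ∀ m : M, a • m = 0) → (∀ a ∉ p, ∀ m : M, a • m = 0 → m = 0) → FinHull Z M := by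
  induction k with
  | zero =>
    intro M _ _ _ hkill _
    haveI : Subsingleton M := subsingleton_of_forall_eq 0 fun m => by
      simpa using hkill 1 (by rw [pow_zero, Ideal.one_eq_top]; exact Submodule.mem_top) m
    exact finHull_of_subsingleton
  | succ k IH =>
    intro M _ _ _ hkill htf
    let M₁ := Submodule.torsionBySet A M (p : Set A)
    have hM₁ : ∀ m, m ∈ M₁ ↔ ∀ a ∈ p, a • m = 0 := fun m => by
      simp [M₁, Submodule.mem_torsionBySet_iff]
    refine finHull_of_submodule M₁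
      (finHull_torsionFree p hZ hc M₁ (fun a ha m => Subtype.ext ((hM₁ m).1 m.2 a ha))
        fun a ha m e => Subtype.ext (htf a ha m (congrArg Subtype.val e)))
      (IH _ (fun a ha m => ?_) fun a ha m e => ?_)
    · obtain ⟨m, rfl⟩ := Submodule.mkQ_surjective _ m
      rw [Submodule.mkQ_apply, ← Submodule.Quotient.mk_smul, Submodule.Quotient.mk_eq_zero, hM₁]
      intro b hb
      rw [smul_smul]
      exact hkill _ (by rw [pow_succ']; exact Ideal.mul_mem_mul hb ha) m
    · obtain ⟨m, rfl⟩ := Submodule.mkQ_surjective _ m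
      rw [Submodule.mkQ_apply, ← Submodule.Quotient.mk_smul, Submodule.Quotient.mk_eq_zero, hM₁] at e
      rw [Submodule.mkQ_apply, Submodule.Quotient.mk_eq_zero, hM₁]
      intro b hb
      exact htf a ha _ (by rw [smul_comm]; exact e b hb)

theorem hFinHull_coprimary (hZ : ∀ ⦃x y : PrimeSpectrum A⦄, x ≤ y → x ∈ Z → y ∈ Z) (hc : Cond Z p) (k : ℕ)
    (M : Type u) [AddCommGroup M] [Module A M] [Module.Finite A M]
    (hkill : ∀ a ∈ p ^ k, ∀ m : M, a • m = 0) (htf : ∀ a ∉ p, ∀ m : M, a • m = 0 → m = 0) : HFinHull Z M := by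
  intro L _ _ i hi
  haveI := Module.Finite.of_injective i hi
  exact finHull_coprimary p hZ hc k L (fun a ha l => hi (by rw [map_smul, hkill a ha, map_zero]))
    fun a ha l e => hi ((htf a ha _ (by rw [← map_smul, e, map_zero])).trans (map_zero i).symm)

omit p in
/-- **Finiteness of dense targets.** -/
theorem finite_of_dense (hZ : ∀ ⦃x y : PrimeSpectrum A⦄, x ≤ y → x ∈ Z → y ∈ Z)
    (M : Type u) [AddCommGroup M] [Module A M] [Module.Finite A M]
    (hc : ∀ x : PrimeSpectrum A, x.asIdeal ∈ associatedPrimes A M → Cond Z x.asIdeal)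
    (N : Type u) [AddCommGroup N] [Module A N] (ρ : M →ₗ[A] N) (hρ : Dense Z ρ) : Module.Finite A N := by
  obtain ⟨t, ht⟩ := Submodule.IsLasker.exists_isMinimalPrimaryDecomposition (Submodule.isLasker A M) ⊥
  have hquot : ∀ q ∈ t, HFinHull Z (M ⧸ q) := fun q hq => by
    haveI hP : ((q.colon Set.univ).radical).IsPrime := (ht.primary hq).isPrime_radical_colon
    obtain ⟨k, hk⟩ := Ideal.exists_radical_pow_le_of_fg (q.colon Set.univ) (IsNoetherian.noetherian _)
    refine hFinHull_coprimary (q.colon Set.univ).radical hZ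
      (hc ⟨(q.colon Set.univ).radical, hP⟩ (ht.mem_associatedPrimes hq)) k (M ⧸ q) (fun a ha m => ?_) fun a ha m e => ?_
    · obtain ⟨m, rfl⟩ := Submodule.mkQ_surjective _ m
      rw [Submodule.mkQ_apply, ← Submodule.Quotient.mk_smul, Submodule.Quotient.mk_eq_zero]
      exact Submodule.mem_colon.1 (hk ha) m (Set.mem_univ m)
    · obtain ⟨m, rfl⟩ := Submodule.mkQ_surjective _ m
      rw [Submodule.mkQ_apply, ← Submodule.Quotient.mk_smul, Submodule.Quotient.mk_eq_zero] at e
      rw [Submodule.mkQ_apply, Submodule.Quotient.mk_eq_zero]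
      exact ((ht.primary hq).mem_or_mem e).resolve_right ha
  have hM : HFinHull Z (M ⧸ t.inf id) := hFinHull_quotient_inf t hquot
  rw [ht.inf_eq] at hM
  exact hM M (Submodule.quotEquivOfEqBot ⊥ rfl).symm.toLinearMap
    (Submodule.quotEquivOfEqBot ⊥ rfl).symm.injective N ρ hρ

end Groth.Agent.ZFin5
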