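import Groth.Agent.ZFin5.Engine
import Groth.Agent.ZClosLib.CohLocus
import Groth.Agent.ZClosLib.Pure
import Groth.Agent.QCoh.SubCompare
import Groth.Agent.QCoh.SpecFT

/-!
# Sections of `H⁰_{X/Z}(F)` over an affine open
-/

set_option autoImplicit false
set_option linter.style.haveILetI false
set_option backward.isDefEq.respectTransparency false
set_option backward.isDefEq.respectTransparency.types false

universe u

open CategoryTheory CategoryTheory.Limits AlgebraicGeometry TopologicalSpace Opposite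

namespace Groth.Agent.ZFin5

open ZClosLib

variable {X : Scheme.{u}} [IsLocallyNoetherian X] {Z : Set X} {F : X.Modules}

/-- The primes of an affine open belonging to `Z`. -/
def primeSet {V : X.Opens} (hV : IsAffineOpen V) (Z : Set X) : Set (PrimeSpectrum Γ(X, V)) :=
  {q | hV.fromSpec q ∈ Z}

omit [IsLocallyNoetherian X] in
theorem mem_primeSet_iff {V : X.Opens} (hV : IsAffineOpen V) {x : X} (hx : x ∈ V) :
    hV.primeIdealOf ⟨x, hx⟩ ∈ primeSet hV Z ↔ x ∈ Z := by
  show hV.fromSpec (hV.primeIdealOf ⟨x, hx⟩) ∈ Z ↔ _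
  rw [hV.fromSpec_primeIdealOf]

omit [IsLocallyNoetherian X] in
theorem primeSet_upper {V : X.Opens} (hV : IsAffineOpen V) (hZ : StableUnderSpecialization Z)
    ⦃x y : PrimeSpectrum Γ(X, V)⦄ (h : x ≤ y) (hx : x ∈ primeSet hV Z) : y ∈ primeSet hV Z :=
  hZ ((VarDim.fromSpec_specializes_iff hV x y).2 h) hx

omit [IsLocallyNoetherian X] in
theorem exists_point_notMem {V : X.Opens} (hV : IsAffineOpen V) (q : PrimeSpectrum Γ(X, V))
    (hq : q ∉ primeSet hV Z) : ∃ (x : X) (hx : x ∈ V), hV.primeIdealOf ⟨x, hx⟩ = q ∧ x ∉ Z := by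
  obtain ⟨x, hx, rfl⟩ := QCoh.exists_point hV q
  exact ⟨x, hx, rfl, fun h => hq ((mem_primeSet_iff hV hx).2 h)⟩

/-- `F(V) → H⁰_{X/Z}(F)(V)` is dense. -/
theorem dense_rho (hF : Coh.IsQCoh F) (hZ : StableUnderSpecialization Z) {V : X.Opens} (hV : IsAffineOpen V) :
    Dense (primeSet hV Z) (QCoh.appLin (ZClos.rhoApp Z F) V) where
  surj q hq n := by
    obtain ⟨x, hx, rfl, hxZ⟩ := exists_point_notMem hV q hq
    let H := (ZClos.H0 Z).obj F
    letI := QCoh.stalkModule F hx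
    letI := QCoh.stalkModule H hx
    haveI := QCoh.isLocalizedModule_germLin hF hV hx
    haveI := QCoh.isLocalizedModule_germLin (isQCoh_H0 hF (Z := Z)) hV hx
    obtain ⟨w, hw⟩ := (isZClosedAt_of_not_mem F hxZ).2 (H.presheaf.germ V x hx n)
    obtain ⟨⟨m, s⟩, hms⟩ := IsLocalizedModule.surj (hV.primeIdealOf ⟨x, hx⟩).asIdeal.primeCompl (QCoh.germLin F hx) w
    have h1 : QCoh.germLin H hx (s.1 • n) = QCoh.germLin H hx (QCoh.appLin (ZClos.rhoApp Z F) V m) := by
      refine (QCoh.germ_smul' H hx s.1 n).trans ?_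
      rw [← hw]
      refine ((((DerSch.stalkFunctor X x).map (ZClos.rhoApp Z F)).hom).map_smul _ w).symm.trans ?_
      have h2 : (X.presheaf.germ V x hx).hom s.1 • w = F.presheaf.germ V x hx m := hms
      refine (congrArg _ h2).trans ?_
      exact germ_rho V hx m
    obtain ⟨c, hc⟩ := (IsLocalizedModule.eq_iff_exists (hV.primeIdealOf ⟨x, hx⟩).asIdeal.primeCompl _).1 h1
    refine ⟨c.1 * s.1, (hV.primeIdealOf ⟨x, hx⟩).isPrime.mul_notMem c.2 s.2, c.1 • m, ?_⟩
    rw [map_smul, mul_smul]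
    exact hc.symm
  inj q hq m hm := by
    obtain ⟨x, hx, rfl, hxZ⟩ := exists_point_notMem hV q hq
    letI := QCoh.stalkModule F hx
    haveI := QCoh.isLocalizedModule_germLin hF hV hx
    have h0 : QCoh.germLin F hx m = 0 := (isZClosedAt_of_not_mem F hxZ).1 (by
      refine (germ_rho V hx m).trans ?_
      rw [show (ZClos.rhoApp Z F).app V m = 0 from hm, map_zero, map_zero])
    obtain ⟨c, hc⟩ := (IsLocalizedModule.eq_zero_iff (hV.primeIdealOf ⟨x, hx⟩).asIdeal.primeCompl _).1 h0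
    exact ⟨c.1, c.2, hc⟩
  pure n hn := by
    obtain ⟨T, a, rfl⟩ := exists_cls hV.isCompact n
    refine (cls_eq_of_germ_eq hZ a 0 fun y hy hyZ => ?_).trans (map_zero ((toH0 Z F T).app V).hom)
    rw [map_zero]
    have hyV : y ∈ V := (mem_img.1 hy).2
    obtain ⟨s, hs, e⟩ := hn (hV.primeIdealOf ⟨y, hyV⟩) fun h => hyZ ((mem_primeSet_iff hV hyV).1 h)
    have hu : IsUnit (X.presheaf.germ V y hyV s) :=
      (X.mem_basicOpen s y hyV).1 ((QCoh.mem_basicOpen_iff_notMem hV hyV s).2 hs)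
    have hzero : ((ZClos.H0 Z).obj F).presheaf.germ V y hyV (cls T V a) = 0 := by
      refine hu.smul_left_cancel.1 ?_
      rw [← QCoh.germ_smul', e, map_zero, smul_zero]
    have hle : img T.U V ≤ V := img_le T.U V
    have e2 : res ((ZClos.H0 Z).obj F) hle (cls T V a) =
        (ZClos.rhoApp Z F).app (img T.U V) a := by
      rw [cls_res, rho_app_eq T]
    have : ZClos.rhoStalk Z F y (F.presheaf.germ (img T.U V) y hy a) = ZClos.rhoStalk Z F y 0 := by
      rw [germ_rho, ← e2, germ_res, hzero, map_zero]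
    exact (isZClosedAt_of_not_mem F hyZ).1 this

/-- Gluing: a compatible system of quotients `φ t / t` gives a section of `H⁰_{X/Z}(F)`. -/
theorem exists_H0_section (hF : Coh.IsQCoh F) (hZ : StableUnderSpecialization Z) {V : X.Opens} (hV : IsAffineOpen V)
    (J : Ideal Γ(X, V)) (φ : J →ₗ[Γ(X, V)] Γ(F, V))
    (hJ : ∀ q ∉ primeSet hV Z, ∃ t ∈ J, t ∉ q.asIdeal) :
    ∃ n : Γ((ZClos.H0 Z).obj F, V), ∀ t : J, t.1 • n = (ZClos.rhoApp Z F).app V (φ t) := by
  obtain ⟨T, hT⟩ := exists_cl hZ (W := V) (O := ⨆ t : J, X.basicOpen t.1) (fun x hx => by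
    by_contra hxZ
    obtain ⟨t, htJ, ht⟩ := hJ (hV.primeIdealOf ⟨x, hx.1⟩) fun h => hxZ ((mem_primeSet_iff hV hx.1).1 h)
    exact hx.2 (Opens.mem_iSup.2 ⟨⟨t, htJ⟩, (QCoh.mem_basicOpen_iff_notMem hV hx.1 t).2 ht⟩))
  let W : J → X.Opens := fun t => X.basicOpen t.1 ⊓ img T.U V
  have hcov : ∀ x ∈ img T.U V, ∃ t, x ∈ W t := fun x hx => by
    obtain ⟨t, ht⟩ := Opens.mem_iSup.1 (hT ⟨(mem_img.1 hx).2, (mem_img.1 hx).1⟩)
    exact ⟨t, ht, hx⟩
  choose σ hσ using fun t : J => exists_div (F := F) t.1 (O := W t) inf_le_left (φ t)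
  have hc : ∀ (t t' : J) (y : X) (hy : y ∈ V), X.presheaf.germ V y hy t'.1 • F.presheaf.germ V y hy (φ t) =
      X.presheaf.germ V y hy t.1 • F.presheaf.germ V y hy (φ t') := fun t t' y hy => by
    rw [← QCoh.germ_smul', ← QCoh.germ_smul', ← map_smul, ← map_smul]
    exact congrArg (fun z => F.presheaf.germ V y hy (φ z)) (Subtype.ext (mul_comm _ _))
  obtain ⟨a, ha⟩ := exists_glue F (U := img T.U V) W (fun t => inf_le_right) hcov σ fun t t' => by
    refine ZClosLib.section_ext F _ _ fun y hy => ?_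
    rw [germ_res, germ_res]
    have hyV : y ∈ V := (mem_img.1 hy.1.2).2
    have hu : IsUnit (X.presheaf.germ V y hyV t.1) := isUnit_germ_of_mem hy.1.1
    have hu' : IsUnit (X.presheaf.germ V y hyV t'.1) := isUnit_germ_of_mem hy.2.1
    refine (hu.mul hu').smul_left_cancel.1 ?_
    rw [mul_comm (X.presheaf.germ V y hyV t.1), mul_smul, hσ t y hy.1, mul_comm, mul_smul, hσ t' y hy.2, hc]
  refine ⟨cls T V a, fun t => (res_H0_bijective T hV.isCompact).1 ?_⟩
  have hle : img T.U V ≤ V := img_le T.U V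
  have hle' : V ⊓ T.U ≤ img T.U V := fun x hx => mem_img.2 ⟨hx.2, hx.1⟩
  rw [← res_res _ hle' hle, ← res_res _ hle' hle]
  refine congrArg (res _ hle') ?_
  have e2 : res ((ZClos.H0 Z).obj F) hle (cls T V a) = (ZClos.rhoApp Z F).app (img T.U V) a := by
    rw [cls_res, rho_app_eq T]
  rw [show res ((ZClos.H0 Z).obj F) hle (t.1 • cls T V a) =
      X.presheaf.map (homOfLE hle).op t.1 • res ((ZClos.H0 Z).obj F) hle (cls T V a) from QCoh.map_smul' _ _ _,
    e2, ← Scheme.Modules.Hom.app_smul, ← app_res]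
  refine congrArg ((ZClos.rhoApp Z F).app (img T.U V)) (ZClosLib.section_ext F _ _ fun y hy => ?_)
  obtain ⟨t', ht'⟩ := hcov y hy
  have hyV : y ∈ V := (mem_img.1 hy).2
  have hu' : IsUnit (X.presheaf.germ V y hyV t'.1) := isUnit_germ_of_mem ht'.1
  refine hu'.smul_left_cancel.1 ?_
  rw [QCoh.germ_smul', germ_res, germ_res' hle hy t.1, ← mul_smul, mul_comm, mul_smul,
    ← germ_res F (show W t' ≤ img T.U V from inf_le_right) ht' a, ha, hσ t' y ht', hc]

/-- Finite sections over one affine open, from the hull condition at the associated points off `Z`. -/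
theorem finite_sections_H0 (hF : Coh.IsCoh F) (hZ : StableUnderSpecialization Z) {V : X.Opens} (hV : IsAffineOpen V)
    (hc : ∀ (x : X) (hx : x ∈ V), x ∈ AssSch.Ass F → Cond (primeSet hV Z) (hV.primeIdealOf ⟨x, hx⟩).asIdeal) :
    Module.Finite Γ(X, V) Γ((ZClos.H0 Z).obj F, V) := by
  haveI : IsNoetherianRing Γ(X, V) := IsLocallyNoetherian.component_noetherian ⟨V, hV⟩
  haveI : Module.Finite Γ(X, V) Γ(F, V) := ZClosLib.finite_sections hF hV
  refine finite_of_dense (primeSet_upper hV hZ) _ (fun q hq => ?_) _ _ (dense_rho hF.1 hZ hV)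
  obtain ⟨x, hx, rfl⟩ := QCoh.exists_point hV q
  exact hc x hx ((AssLib.mem_ass_iff hF.1 hV hx).2 hq)

end Groth.Agent.ZFin5
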